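import Mathlib

/-!
# Direct sum dévissages
-/

set_option autoImplicit false

namespace Groth.Kaplansky

variable {R : Type*} [CommRing R] {M : Type*} [AddCommGroup M] [Module R M]

/-- The complements chosen at the successor steps of a direct sum dévissage form an internal direct sum. -/
theorem isInternal_complements {S : Type*} [LinearOrder S] [WellFoundedLT S]
    [DecidableEq {p : S × S // p.1 ⋖ p.2}] (Mf : S → Submodule R M)
    (hmono : Monotone Mf) (hlim : ∀ s : S, Order.IsSuccPrelimit s → Mf s = ⨆ t : {t : S // t < s}, Mf t.1)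
    (htop : (⨆ s, Mf s) = ⊤) (C : {p : S × S // p.1 ⋖ p.2} → Submodule R M)
    (hinf : ∀ p, Mf p.1.1 ⊓ C p = ⊥) (hsup : ∀ p, Mf p.1.1 ⊔ C p = Mf p.1.2) :
    DirectSum.IsInternal C := by
  have hle : ∀ p, C p ≤ Mf p.1.2 := fun p => hsup p ▸ le_sup_right
  rw [DirectSum.isInternal_submodule_iff_iSupIndep_and_iSup_eq_top]
  constructor
  · rw [iSupIndep_iff_finset_sum_eq_zero_imp_eq_zero]
    intro s v
    classical
    refine Finset.induction_on_max_value (fun p : {p : S × S // p.1 ⋖ p.2} => p.1.2) s (fun _ _ i hi => absurd hi (by simp)) ?_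
    intro a t hat hmax ih hv hsum
    have hlt : ∀ q ∈ t, q.1.2 ≤ a.1.1 := by
      intro q hq
      have hne : q.1.2 ≠ a.1.2 := fun e => by
        have h1 : q.1.1 = a.1.1 := (e ▸ q.2).unique_left a.2
        exact hat (Subtype.ext (Prod.ext h1 e) ▸ hq)
      have h2 : q.1.2 < a.1.2 := lt_of_le_of_ne (hmax q hq) hne
      exact a.2.le_of_lt h2
    rw [Finset.sum_insert hat] at hsum
    have h1 : ∑ q ∈ t, v q ∈ Mf a.1.1 := Submodule.sum_mem _ fun q hq =>
      hmono (hlt q hq) (hle q (hv q (Finset.mem_insert_of_mem hq)))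
    have h2 : v a ∈ Mf a.1.1 ⊓ C a := ⟨by
      rw [eq_neg_of_add_eq_zero_left hsum]; exact neg_mem h1, hv a (Finset.mem_insert_self a t)⟩
    rw [hinf a, Submodule.mem_bot] at h2
    rw [h2, zero_add] at hsum
    intro i hi
    rcases Finset.mem_insert.1 hi with rfl | hi
    · exact h2
    · exact ih (fun q hq => hv q (Finset.mem_insert_of_mem hq)) hsum i hi
  · rw [eq_top_iff, ← htop, iSup_le_iff]
    intro t
    induction t using WellFoundedLT.induction with
    | ind t ih =>
      by_cases ht : Order.IsSuccPrelimit t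
      · rw [hlim t ht, iSup_le_iff]
        exact fun u => ih u.1 u.2
      · obtain ⟨s, hs⟩ := Order.not_isSuccPrelimit_iff_exists_covBy.1 ht
        have := hsup ⟨(s, t), hs⟩
        simp only at this
        rw [← this]
        exact sup_le (ih s hs.lt) (le_iSup C ⟨(s, t), hs⟩)

/-- The complement of `A` in `B` is isomorphic to the quotient `B/A`. -/
noncomputable def complEquiv {A B C : Submodule R M} (hinf : A ⊓ C = ⊥) (hsup : A ⊔ C = B) :
    C ≃ₗ[R] ↥B ⧸ Submodule.comap B.subtype A :=
  LinearEquiv.ofBijective ((Submodule.comap B.subtype A).mkQ ∘ₗ Submodule.inclusion (hsup ▸ le_sup_right : C ≤ B))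
    ⟨by
      rw [← LinearMap.ker_eq_bot, eq_bot_iff]
      intro x hx
      have h1 : (x : M) ∈ A := by simpa using hx
      have h2 : (x : M) ∈ A ⊓ C := ⟨h1, x.2⟩
      rw [hinf, Submodule.mem_bot] at h2
      exact (Submodule.mem_bot R).2 (Subtype.ext h2), by
      intro y
      obtain ⟨⟨b, hb⟩, rfl⟩ := Submodule.mkQ_surjective _ y
      have hb' : b ∈ A ⊔ C := hsup ▸ hb
      obtain ⟨a, ha, c, hc, e⟩ := Submodule.mem_sup.1 hb'
      refine ⟨⟨c, hc⟩, ?_⟩
      simp only [LinearMap.comp_apply, Submodule.mkQ_apply, Submodule.Quotient.eq, Submodule.mem_comap,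
        Submodule.subtype_apply, Submodule.coe_sub, Submodule.coe_inclusion]
      rw [← e, show c - (a + c) = -a by abel]
      exact neg_mem ha⟩

end Groth.Kaplansky
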